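import Cfsg.Agent.H689.WF.SpMat
import Cfsg.Agent.H253.Orth.J3
import Cfsg.Agent.H497.Stein.Jan

/-!
# Row of S3826: `J₃` (helper689)

The elements of order 3 are conjugate to `E^{±1}` or `A_1`, and `E A_1 (C A_1 C)` has order 6.
-/

set_option autoImplicit false
set_option maxRecDepth 100000

namespace Cfsg.Agent.H689.WF.JThree

open Subgroup Cfsg Cfsg.Agent.H533.T5 Cfsg.Agent.H533.Wf
open Cfsg.Spor Cfsg.Agent.J3.Core Cfsg.Agent.J3.Tab Cfsg.Agent.J3.Mono Cfsg.Agent.J3.Elts Cfsg.Agent.H898.J3Three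
open Cfsg.Agent.H792.SpJ3
open Cfsg.Agent.J3.Nineteen (exists_scalar)

universe u v

/-- the table of `E A_1 C A_1 C` -/
def tZ : List ℕ := compT (compT tE (tA (1, 0))) (compT tC (compT (tA (1, 0)) tC))

theorem chk_c : beqL (compT tC (cols tC)) (cols (tS 0)) = true := by decide +kernel
theorem chk_six : beqL (compT tZ (compT tZ (compT tZ (compT tZ (compT tZ (cols tZ)))))) (cols (tS 0)) = true := by
  decide +kernel
theorem chk_three : Nat.beq ((cols (compT tZ (compT tZ tZ))).getD (idx (1, 0)) 0)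
    ((cols (tS 0)).getD (idx (1, 0)) 0) = false := by decide +kernel

section
variable {F : Type} [Field F] {ω : F}

theorem six_of (H : Good ω) {T : List ℕ} {z : threeJ3 F ω} (rz : RepG ω T z)
    (h : beqL (compT T (compT T (compT T (compT T (compT T (cols T)))))) (cols (tS 0)) = true) : z ^ 6 = 1 := by
  have h6 : z * (z * (z * (z * (z * z)))) = 1 :=
    (rz.mul (rz.mul (rz.mul (rz.mul (rz.mul rz))))).ext (repG_one H)
      (by rw [cols_compT, cols_compT, cols_compT, cols_compT, cols_compT]; exact beqL_eq h)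
  rw [← h6]
  simp only [pow_succ, pow_zero, one_mul, mul_assoc]

theorem three_of (H : Good ω) {T : List ℕ} {z : threeJ3 F ω} (rz : RepG ω T z)
    (h : Nat.beq ((cols (compT T (compT T T))).getD (idx (1, 0)) 0) ((cols (tS 0)).getD (idx (1, 0)) 0) = false) :
    z ^ 3 ≠ 1 := by
  intro h1
  have h2 : z * (z * z) = 1 := by
    rw [← h1]
    simp only [pow_succ, pow_zero, one_mul, mul_assoc]
  have h3 : RepG ω (tS 0) (z * (z * z)) := by rw [h2]; exact repG_one H
  exact Nat.ne_of_beq_eq_false h ((rz.mul (rz.mul rz)).cols_eq H h3 (1, 0))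

theorem repG_a (H : Good ω) (G : Gens F ω) (Z : F9) : RepG ω (tA Z) (G.a Z) := by
  unfold RepG; rw [G.ha]; exact repA H _

theorem repG_e (H : Good ω) (G : Gens F ω) : RepG ω tE G.e := by
  unfold RepG; rw [G.he]; exact repE H

theorem repG_c (H : Good ω) (G : Gens F ω) : RepG ω tC G.c := by
  unfold RepG; rw [G.hc]; exact repC H

theorem c_inv (H : Good ω) (G : Gens F ω) : (G.c)⁻¹ = G.c := by
  have rc := repG_c H G
  have hcc : G.c * G.c = 1 := (rc.mul rc).ext (repG_one H) (by rw [cols_compT]; exact beqL_eq chk_c)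
  exact inv_eq_of_mul_eq_one_right hcc

def zz (G : Gens F ω) : threeJ3 F ω := (G.e * G.a (1, 0)) * (G.c * (G.a (1, 0) * G.c))

theorem repG_z (H : Good ω) (G : Gens F ω) : RepG ω tZ (zz G) := by
  have h1 : RepG ω (compT tE (tA (1, 0))) (G.e * G.a (1, 0)) := (repG_e H G).mul (repG_a H G (1, 0))
  have h2 : RepG ω (compT (tA (1, 0)) tC) (G.a (1, 0) * G.c) := (repG_a H G (1, 0)).mul (repG_c H G)
  have h3 : RepG ω (compT tC (compT (tA (1, 0)) tC)) (G.c * (G.a (1, 0) * G.c)) := (repG_c H G).mul h2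
  have h4 := h1.mul h3
  unfold tZ zz
  exact h4

theorem z_six (H : Good ω) (G : Gens F ω) : zz G ^ 6 = 1 := six_of H (repG_z H G) chk_six

theorem z_three (H : Good ω) (G : Gens F ω) : zz G ^ 3 ≠ 1 := three_of H (repG_z H G) chk_three

theorem pr_zz (H : Good ω) (G : Gens F ω) :
    pr (G.e * G.a (1, 0)) * (pr G.c * pr (G.a (1, 0)) * (pr G.c)⁻¹) = pr (ω := ω) (zz G) := by
  have h1 : (pr G.c)⁻¹ = pr (ω := ω) G.c := by rw [← map_inv, c_inv H G]
  rw [h1, mul_assoc, ← map_mul, ← map_mul, ← map_mul]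
  rfl

theorem zz_six (H : Good ω) (G : Gens F ω) : pr (ω := ω) (zz G) ^ 6 = 1 := by
  rw [← map_pow, z_six H G, map_one]

theorem zz_three [Fintype F] (hF : Fintype.card F = 4) (H : Good ω) (G : Gens F ω) : pr (ω := ω) (zz G) ^ 3 ≠ 1 := by
  intro h
  have h5 : zz G ^ 3 ∈ center (threeJ3 F ω) := by
    rw [← map_pow] at h
    exact (QuotientGroup.eq_one_iff _).1 h
  exact z_three H G (cube_eq_one hF H h5)

/-- the elements of order 3 of the Sylow subgroup -/
theorem cases [Fintype F] (hF : Fintype.card F = 4) (H : Good ω) (G : Gens F ω) {k : ℕ} {a w : F9}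
    (hx : orderOf (pr (G.e ^ k * (G.a a * G.d w)) : J3 F ω) = 3) :
    IsConj (pr (G.a (1, 0)) : J3 F ω) (pr (G.e ^ k * (G.a a * G.d w))) ∨
    ∃ n : ℕ, (n = 1 ∨ n = 2) ∧ IsConj ((pr G.e : J3 F ω) ^ n) (pr (G.e ^ k * (G.a a * G.d w))) := by
  have hw : w = 0 := by
    by_contra hw
    apply cube_ne H G hw (k := k) (a := a)
    apply cube_eq_one hF H
    have h1 : (pr (G.e ^ k * (G.a a * G.d w)) : J3 F ω) ^ 3 = 1 := orderOf_dvd_iff_pow_eq_one.1 hx.dvd
    rw [← map_pow] at h1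
    exact (QuotientGroup.eq_one_iff _).1 h1
  subst hw
  rw [d_zero G, mul_one] at hx ⊢
  by_cases hk : k % 3 = 0
  · left
    rw [e_mod H G k, hk, pow_zero, one_mul] at hx ⊢
    have ha : a ≠ 0 := by
      rintro rfl
      rw [a_zero H G, map_one, orderOf_one] at hx
      norm_num at hx
    obtain ⟨g, hg⟩ := isConj_iff.1 (Cfsg.Agent.H253.Orth.J3.conj_a H G ha (W := (1, 0)) (by decide))
    refine isConj_iff.2 ⟨pr g, ?_⟩
    rw [← hg, map_mul, map_mul, map_inv]
  · right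
    obtain ⟨v, hv⟩ : ∃ v : F9, (k % 3) • v = a := by
      have h1 : k % 3 = 1 ∨ k % 3 = 2 := by omega
      rcases h1 with h | h
      · exact ⟨a, by rw [h, one_smul]⟩
      · exact ⟨a + a, by rw [h, two_a]⟩
    have h2 := pr_dek hF H G v (k % 3)
    rw [hv] at h2
    refine ⟨k % 3, by omega, isConj_iff.2 ⟨pr (G.d v), ?_⟩⟩
    rw [h2, mul_inv_cancel_right, map_mul, e_mod H G k, map_pow]

theorem pairs [Fintype F] (hF : Fintype.card F = 4) (hω : ω ^ 2 + ω + 1 = 0) {x y : J3 F ω} (hx : orderOf x = 3)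
    (hy : orderOf y = 3) : WPair 3 (⊤ : Subgroup (J3 F ω)) x y := by
  have h3 : Fact (Nat.Prime 3) := ⟨Nat.prime_three⟩
  have H : Good ω := good_of_card hF hω
  have hI : IsoJ3 (J3 F ω) := ⟨F, inferInstance, inferInstance, ω, hF, hω, ⟨MulEquiv.refl _⟩⟩
  have hcard : Nat.card (J3 F ω) = 50232960 := NotCT.Orders.j3 hI
  have hfin : Finite (J3 F ω) := Nat.finite_of_card_ne_zero (by rw [hcard]; norm_num)
  have hsim : IsSimpleGroup (J3 F ω) := (Cfsg.Agent.S1625.result F hF ω hω).2.2.2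
  have hnc : ¬ IsMulCommutative (J3 F ω) := not_comm_of_card (by rw [hcard]; norm_num)
  obtain ⟨G⟩ := exists_gens hF H
  obtain ⟨S, hS⟩ := exists_S hF H G
  have conj : ∀ {a b a' b' : J3 F ω}, IsConj a' a → IsConj b' b → WPair 3 (⊤ : Subgroup (J3 F ω)) a' b' →
      WPair 3 (⊤ : Subgroup (J3 F ω)) a b := by
    intro a b a' b' ha hb h
    obtain ⟨g, rfl⟩ := isConj_iff.1 ha
    obtain ⟨k, rfl⟩ := isConj_iff.1 hb
    refine WPair.conj_left (mem_top g⁻¹) (WPair.conj_right (mem_top k⁻¹) ?_)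
    have e1 : g⁻¹ * (g * a' * g⁻¹) * g⁻¹⁻¹ = a' := by group
    have e2 : k⁻¹ * (k * b' * k⁻¹) * k⁻¹⁻¹ = b' := by group
    rw [e1, e2]
    exact h
  -- the mixed pair
  have mix0 : WPair 3 (⊤ : Subgroup (J3 F ω)) (pr (G.e * G.a (1, 0))) (pr (G.a (1, 0))) := by
    refine wpair_of_pow_ne (n := 5) (by rw [hcard]; norm_num) (g := pr G.c) ?_
    rw [pr_zz H G, show 3 ^ 5 = 6 * 40 + 3 by norm_num, pow_add, pow_mul, zz_six H G, one_pow, one_mul]
    exact zz_three hF H G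
  have mix1 : WPair 3 (⊤ : Subgroup (J3 F ω)) (pr G.e) (pr (G.a (1, 0))) := by
    refine conj (a' := pr (G.e * G.a (1, 0))) (b' := pr (G.a (1, 0))) ?_ (IsConj.refl _) mix0
    have h2 := pr_dek hF H G (1, 0) 1
    rw [pow_one, one_smul] at h2
    refine (isConj_iff.2 ⟨pr (G.d (1, 0)), ?_⟩ : IsConj (pr G.e : J3 F ω) _).symm
    rw [h2, mul_inv_cancel_right, map_mul]
  have mix : ∀ n : ℕ, (n = 1 ∨ n = 2) → WPair 3 (⊤ : Subgroup (J3 F ω)) (pr G.e ^ n) (pr (G.a (1, 0))) := by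
    rintro n (rfl | rfl)
    · rw [pow_one]; exact mix1
    · refine WPair.of_pow 2 1 ?_
      have h1 : ((pr G.e : J3 F ω) ^ 2) ^ (2 : ℤ) = pr G.e := by
        have h2 : (pr G.e : J3 F ω) ^ 3 = 1 := by rw [← map_pow, e_cube G H, map_one]
        have h3 : ((pr G.e : J3 F ω) ^ 2) ^ (2 : ℤ) = (pr G.e : J3 F ω) ^ 3 * pr G.e := by
          rw [show (2 : ℤ) = ((2 : ℕ) : ℤ) from rfl, zpow_natCast, ← pow_mul, ← pow_succ]
        rw [h3, h2, one_mul]
      rw [h1, zpow_one]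
      exact mix1
  refine wpair_of_sylow S (fun a ha b hb hao hbo => ?_) hx hy
  obtain ⟨k, u, w, rfl⟩ := (hS a).1 ha
  obtain ⟨k', u', w', rfl⟩ := (hS b).1 hb
  have ne : ∀ {z : J3 F ω}, orderOf z = 3 → z ^ 1 ≠ 1 := by
    intro z hz h
    rw [pow_one] at h
    rw [h, orderOf_one] at hz
    norm_num at hz
  rcases cases hF H G hao with h1 | ⟨n, hn, h1⟩ <;> rcases cases hF H G hbo with h2 | ⟨m, hm, h2⟩
  · exact wpair_of_isConj hnc (i := 1) (j := 1) (by rw [pow_one, pow_one]; exact h2.symm.trans h1) (ne hao)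
  · exact (conj h2 h1 (mix m hm)).symm
  · exact conj h1 h2 (mix n hn)
  · refine wpair_of_isConj hnc (i := m) (j := n) ?_ ?_
    · have h3 := h2.pow n
      have h4 := h1.pow m
      rw [← pow_mul] at h3 h4
      rw [mul_comm m n] at h3
      exact h3.symm.trans h4
    · intro h
      have h3 : 3 ∣ m := by
        rw [← hao]
        exact orderOf_dvd_iff_pow_eq_one.2 h
      omega

end

end Cfsg.Agent.H689.WF.JThree

namespace Cfsg.Agent.H689.WF

open Cfsg.Agent.H533.Wf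

universe u v

theorem wf_j3 {K : Type v} [Group K] [Finite K] [IsSimpleGroup K] (h : Spor.IsoJ3 K) : WfRow.{u, v} 3 K := by
  obtain ⟨F, _, _, ω, hF, hω, ⟨e⟩⟩ := id h
  exact row_of_pairs (by unfold IsSporadicGroup; tauto) (by rw [NotCT.Orders.j3 h]; norm_num) e
    fun x y hx hy => JThree.pairs hF hω hx hy

end Cfsg.Agent.H689.WF
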