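import Cfsg.Agent.H689.WF.Tool
import Cfsg.Agent.H322.Rad3.Mathieu

/-!
# Rows of S3826: `M₁₂`, `M₂₄` (helper689)

For every pair `P`, `Q` of elements `≠ 1` of a Sylow 3-subgroup (an explicit list) there is an involution `T` with
`(P T Q T) ^ 27 ≠ 1`.
-/

set_option autoImplicit false

namespace Cfsg.Agent.H689.WF

open Subgroup Cfsg Cfsg.Agent.H533.T5 Cfsg.Agent.H533.Wf
open Cfsg.Agent.SporadicA.GolayBase Cfsg.Agent.SporadicA.GolayPerm
open Cfsg.Agent.SporadicStructure.M24El Cfsg.Agent.H865.ListGroup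
open scoped Pointwise

universe u v

/-- a product of conjugates whose order is not a power of `p` -/
theorem wpair_of_pow_ne {G : Type*} [Group G] [Finite G] {p n : ℕ} [hp : Fact p.Prime]
    (hn : ¬ p ^ (n + 1) ∣ Nat.card G) {x y g : G} (h : (x * (g * y * g⁻¹)) ^ p ^ n ≠ 1) :
    WPair p (⊤ : Subgroup G) x y := by
  refine ⟨g, mem_top _, fun hP => h ?_⟩
  set C := Subgroup.closure ({x, g * y * g⁻¹} : Set G) with hC
  obtain ⟨m, hm⟩ := IsPGroup.iff_card.mp hP
  have hmn : m ≤ n := by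
    by_contra h3
    apply hn
    calc p ^ (n + 1) ∣ p ^ m := pow_dvd_pow p (by omega)
      _ ∣ Nat.card G := by rw [← hm]; exact Subgroup.card_subgroup_dvd_card _
  have hz : x * (g * y * g⁻¹) ∈ C :=
    mul_mem (Subgroup.subset_closure (by simp)) (Subgroup.subset_closure (by simp))
  have h1 : orderOf (⟨_, hz⟩ : C) ∣ p ^ m := by rw [← hm]; exact orderOf_dvd_natCard _
  rw [Subgroup.orderOf_mk] at h1
  exact orderOf_dvd_iff_pow_eq_one.1 (h1.trans (pow_dvd_pow p hmn))

/-- all pairs from the pairs in a Sylow subgroup -/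
theorem wpair_of_sylow {G : Type*} [Group G] [Finite G] {p : ℕ} [hp : Fact p.Prime] (S : Sylow p G)
    (h : ∀ x ∈ S, ∀ y ∈ S, orderOf x = p → orderOf y = p → WPair p (⊤ : Subgroup G) x y) {x y : G}
    (hx : orderOf x = p) (hy : orderOf y = p) : WPair p (⊤ : Subgroup G) x y := by
  have key : ∀ a : G, orderOf a = p → ∃ c : G, c * a * c⁻¹ ∈ S := by
    intro a ha
    have hpg : IsPGroup p (zpowers a) := IsPGroup.of_card (n := 1) (by rw [Nat.card_zpowers, ha, pow_one])
    obtain ⟨Q, hQ⟩ := hpg.exists_le_sylow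
    obtain ⟨c, hc⟩ := MulAction.exists_smul_eq G Q S
    refine ⟨c, ?_⟩
    rw [← hc]
    exact ⟨a, hQ (mem_zpowers a), rfl⟩
  obtain ⟨c, hc⟩ := key x hx
  obtain ⟨d, hd⟩ := key y hy
  refine WPair.conj_left (mem_top c) (WPair.conj_right (mem_top d) (h _ hc _ hd ?_ ?_))
  · rw [← hx]; exact MulEquiv.orderOf_eq (MulAut.conj c) x
  · rw [← hy]; exact MulEquiv.orderOf_eq (MulAut.conj d) y

/-- the 27-th power -/
def p3 (P : ℕ) : ℕ := pcomp (pcomp P P) P

theorem el_p3 {P : ℕ} (h : ok P = true) : ok (p3 P) = true ∧ el (p3 P) = el P ^ 3 := by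
  have h2 := ok_pcomp h h
  refine ⟨ok_pcomp h2 h, ?_⟩
  unfold p3
  rw [el_pcomp h2 h, el_pcomp h h, pow_succ, pow_two]

/-- the check -/
def chkP (test : ℕ → Bool) (L TL : List ℕ) : Bool :=
  (L.all fun P => test P) && (TL.all fun T => (ok T && test T) && Nat.beq (pcomp T T) idP) &&
    (L.all fun P => Nat.beq P idP || (L.all fun Q => Nat.beq Q idP || TL.any fun T =>
      !(Nat.beq (pcomp (p3 (p3 (p3 (pcomp P (pcomp T (pcomp Q T)))))) idP) idP)))

theorem wpair_of_list (X : Subgroup M24) (test : ℕ → Bool)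
    (htest : ∀ P, ok P = true → test P = true → el P ∈ X) (L TL : List ℕ) (hL : chkGroup L = true) (hnd : L.Nodup)
    (hchk : chkP test L TL = true) (hk : (Nat.card X).factorization 3 = 3) (hcard : L.length = 3 ^ 3) {x y : X}
    (hx : orderOf x = 3) (hy : orderOf y = 3) : WPair 3 (⊤ : Subgroup X) x y := by
  have h3 : Fact (Nat.Prime 3) := ⟨by norm_num⟩
  unfold chkP at hchk
  simp only [Bool.and_eq_true, List.all_eq_true, List.any_eq_true, Bool.or_eq_true, Nat.beq_eq,
    Bool.not_eq_true'] at hchk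
  obtain ⟨⟨hc1, hc2⟩, hc3⟩ := hchk
  have hok : ∀ P ∈ L, ok P = true := fun P hP => ((chkGroup_spec hL).1 P hP).1
  have hle : listGroup L hL ≤ X := by
    rintro _ ⟨P, hP, rfl⟩
    exact htest P (hok P hP) (hc1 P hP)
  let S0 : Subgroup X := (listGroup L hL).subgroupOf X
  have hS0 : Nat.card S0 = 3 ^ (Nat.card X).factorization 3 := by
    rw [Nat.card_congr (subgroupOfEquivOfLe hle).toEquiv, card_listGroup hL hnd, hcard, hk]
  let S : Sylow 3 X := Sylow.ofCard S0 hS0
  have hne : ∀ {a : X} {P : ℕ}, orderOf a = 3 → (a : M24) = el P → P ≠ idP := by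
    rintro a P ha hP rfl
    rw [el_idP] at hP
    have h1 : a = 1 := Subtype.ext hP
    rw [h1, orderOf_one] at ha
    norm_num at ha
  refine wpair_of_sylow S (fun a ha b hb hao hbo => ?_) hx hy
  obtain ⟨P, hP, hP'⟩ : (a : M24) ∈ listGroup L hL := mem_subgroupOf.1 ha
  obtain ⟨Q, hQ, hQ'⟩ : (b : M24) ∈ listGroup L hL := mem_subgroupOf.1 hb
  obtain ⟨T, hT, hT2⟩ := ((hc3 P hP).resolve_left (hne hao hP') Q hQ).resolve_left (hne hbo hQ')
  obtain ⟨⟨hTok, hTt⟩, hTT⟩ := hc2 T hT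
  have hTX := htest T hTok hTt
  have hTi : (el T)⁻¹ = el T := by
    rw [inv_eq_iff_mul_eq_one, ← el_pcomp hTok hTok, hTT, el_idP]
  have hn : ¬ 3 ^ (3 + 1) ∣ Nat.card X := by
    intro hd
    have h0 : Nat.card X ≠ 0 := by
      intro h0
      rw [h0, Nat.factorization_zero] at hk
      exact absurd hk (by simp)
    have h1 := (Nat.Prime.pow_dvd_iff_le_factorization Nat.prime_three h0).1 hd
    omega
  refine wpair_of_pow_ne hn (g := ⟨el T, hTX⟩) fun h => ?_
  have h1 : (el P * (el T * el Q * (el T)⁻¹)) ^ 27 = 1 := by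
    have h2 := congrArg (Subtype.val : X → M24) h
    rw [← hP', ← hQ']
    exact h2
  have o1 := ok_pcomp (hok Q hQ) hTok
  have o2 := ok_pcomp hTok o1
  have o3 := ok_pcomp (hok P hP) o2
  obtain ⟨o4, e4⟩ := el_p3 o3
  obtain ⟨o5, e5⟩ := el_p3 o4
  obtain ⟨o6, e6⟩ := el_p3 o5
  have h2 : el (p3 (p3 (p3 (pcomp P (pcomp T (pcomp Q T)))))) = el idP := by
    rw [e6, e5, e4, el_pcomp (hok P hP) o2, el_pcomp hTok o1, el_pcomp (hok Q hQ) hTok, ← pow_mul, ← pow_mul,
      el_idP, ← h1, hTi, mul_assoc (el T)]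
  have h4 := pcomp_idP_congr (papp_of_el_eq o6 ok_idP h2)
  have h5 : pcomp idP idP = idP := by decide +kernel
  rw [h4, h5] at hT2
  exact absurd hT2 (by decide +kernel)

theorem fact3 {n m k : ℕ} (h : n = 3 ^ k * m) (hm : ¬ 3 ∣ m) : n.factorization 3 = k :=
  Cfsg.Agent.H322.RadM.fact3 h hm

/-- the row of a subgroup of `M24` -/
theorem row_of_list {K : Type v} [Group K] [Finite K] [IsSimpleGroup K] (Y : Subgroup (Equiv.Perm GolayPt))
    (hY : Y ≤ M24) (e : K ≃* Y) (hS : IsSporadicGroup K) {n m : ℕ} (hn : Nat.card K = n) (hnm : n = 3 ^ 3 * m)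
    (hm : ¬ 3 ∣ m) (hp : ¬ n.Prime) (test : ℕ → Bool)
    (htest : ∀ P, ok P = true → test P = true → ((el P : M24) : Equiv.Perm GolayPt) ∈ Y) (L TL : List ℕ)
    (hL : chkGroup L = true) (hnd : L.Nodup) (hchk : chkP test L TL = true) (hcard : L.length = 3 ^ 3) :
    WfRow.{u, v} 3 K := by
  let X : Subgroup M24 := Y.subgroupOf M24
  let f : K ≃* X := e.trans (subgroupOfEquivOfLe hY).symm
  have hfin : Finite X := Finite.of_equiv K f.toEquiv
  have hX : Nat.card X = n := by rw [← Nat.card_congr f.toEquiv, hn]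
  exact row_of_pairs hS (hn ▸ hp) f fun x y hx hy =>
    wpair_of_list X test (fun P h1 h2 => mem_subgroupOf.2 (htest P h1 h2)) L TL hL hnd hchk
      (hX ▸ fact3 hnm hm) hcard hx hy

open Cfsg.Agent.H322.RadM

theorem wf_m12 {K : Type v} [Group K] [Finite K] [IsSimpleGroup K] (h : Spor.IsoM12 K) : WfRow.{u, v} 3 K := by
  obtain ⟨e⟩ := id h
  refine row_of_list Spor.M12 (fun _ h => h.1) e (Or.inr (Or.inl h)) (n := 95040) (m := 3520) (NotCT.Orders.m12 h)
    (by norm_num) (by norm_num) (by norm_num) (fun P => Nat.beq (pimg P H180.KMathieu.D) H180.KMathieu.D) (fun P hP ht => ?_) L12 T12 (by decide +kernel)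
    (by decide +kernel) (by decide +kernel) (by decide +kernel)
  · rw [Nat.beq_eq] at ht
    exact mem_M12' hP ht

theorem wf_m24 {K : Type v} [Group K] [Finite K] [IsSimpleGroup K] (h : Spor.IsoM24 K) : WfRow.{u, v} 3 K := by
  obtain ⟨e⟩ := id h
  refine row_of_list M24 (le_rfl) e (Or.inr (Or.inr (Or.inr (Or.inr (Or.inl h))))) (n := 244823040) (m := 9067520) (NotCT.Orders.m24 h)
    (by norm_num) (by norm_num) (by norm_num) (fun _ => true) (fun P hP ht => ?_) L24 T24 (by decide +kernel)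
    (by decide +kernel) (by decide +kernel) (by decide +kernel)
  · exact (el P).2

end Cfsg.Agent.H689.WF
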