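import Cfsg.Agent.H689.WF.Tool
import Cfsg.Agent.H461.T5.Cube
import Cfsg.Agent.H51.Rad3.Ru

/-!
# Row of S3826: `Ru` (helper689)

The words `wa`, `wb`, `wc` of the Sylow 3-subgroup are those of helper51; the law `(x y) (y x) = (y x) (x y)` of the
groups of class two fails for all pairs of representatives (as in helper461's row for `p = 5`).
-/

set_option autoImplicit false
set_option maxRecDepth 100000
set_option exponentiation.threshold 5000

namespace Cfsg.Agent.H689.WF.Ru

open Subgroup Cfsg Cfsg.Agent.H533.T5 Cfsg.Agent.H461.T5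
open Cfsg.Agent.Lib Cfsg.Agent.SporadicB Cfsg.Agent.SporadicB.RuOrder Cfsg.Agent.RuD.Letters
open Cfsg.Agent.SporRec.TCUpperCert Cfsg.Agent.SporRec.R3.Kernel
open Cfsg.Agent.H978.RadRu (rep wprod_rep chkEqW eq_of_chkEqW ne_one_of)
open Cfsg.Agent.H51.Rad3.Ru (wa wb wc chk_rels)

/-- words of the representatives -/
def wr : ℕ → List ℕ
  | 0 => wc
  | 1 => wa
  | t + 2 => (List.replicate t wa).flatten ++ wb

/-- the word of the conjugate -/
def ws (j : ℕ) : List ℕ := [0] ++ wr j ++ [0]

/-- the check of the law for all pairs of representatives, at the point 0 -/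
noncomputable def chkP : Bool :=
  (List.range 5).all fun i => (List.range 5).all fun j =>
    !Nat.beq (evalK (wr i ++ ws j ++ (ws j ++ wr i)) 0) (evalK (ws j ++ wr i ++ (wr i ++ ws j)) 0)

theorem chk_law : chkP = true := by decide +kernel

abbrev P (w : List ℕ) : RuOrder.H := wprod ml w

theorem P_append (u v : List ℕ) : P (u ++ v) = P u * P v := wprod_append ml u v

theorem chk_g : P ([0] ++ [0]) = P [] := eq_of_chkEqW (by decide +kernel)

theorem P_flatten (t : ℕ) (w : List ℕ) : P (List.replicate t w).flatten = P w ^ t := by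
  induction t with
  | zero => rfl
  | succ t ih => rw [List.replicate_succ, List.flatten_cons, P_append, ih, pow_succ']

theorem word_of_rp {r : RuOrder.H} (hr : Rp 3 (P wa) (P wb) (P wc) r) : ∃ i < 5, r = P (wr i) := by
  rcases hr with rfl | rfl | ⟨t, ht, rfl⟩
  · exact ⟨0, by omega, rfl⟩
  · exact ⟨1, by omega, rfl⟩
  · exact ⟨t + 2, by omega, by rw [wr, P_append, P_flatten]⟩

theorem law_ne {r s : RuOrder.H} (hr : Rp 3 (P wa) (P wb) (P wc) r) (hs : Rp 3 (P wa) (P wb) (P wc) s) :
    r * (P [0] * s * (P [0])⁻¹) * ((P [0] * s * (P [0])⁻¹) * r) ≠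
      (P [0] * s * (P [0])⁻¹) * r * (r * (P [0] * s * (P [0])⁻¹)) := by
  obtain ⟨i, hi, rfl⟩ := word_of_rp hr
  obtain ⟨j, hj, rfl⟩ := word_of_rp hs
  have hg : (P [0])⁻¹ = P [0] := by
    apply inv_eq_of_mul_eq_one_right
    rw [← P_append]
    exact chk_g
  have h1 := List.all_eq_true.1 (List.all_eq_true.1 chk_law i (List.mem_range.2 hi)) j (List.mem_range.2 hj)
  simp only [hg, ← P_append]
  intro h
  have h2 := evalK_eq (wr i ++ ws j ++ (ws j ++ wr i)) ⟨0, by norm_num⟩
  have h3 := evalK_eq (ws j ++ wr i ++ (wr i ++ ws j)) ⟨0, by norm_num⟩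
  have h4 : (wprod ml (wr i ++ ws j ++ (ws j ++ wr i)) : RuOrder.H) = wprod ml (ws j ++ wr i ++ (wr i ++ ws j)) := h
  rw [h4, h3] at h2
  simp only [Bool.not_eq_true'] at h1
  exact Nat.ne_of_beq_eq_false h1 h2.symm

/-- **the pairs of elements of order 3 of the Rudvalis group** -/
theorem wpair {x y : RuOrder.H} (hx : orderOf x = 3) (hy : orderOf y = 3) : WPair 3 (⊤ : Subgroup RuOrder.H) x y := by
  have : Fact (Nat.Prime 3) := ⟨by norm_num⟩
  have : Finite RuOrder.H := Nat.finite_of_card_ne_zero (by rw [card_H]; norm_num)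
  have hr := rel_of_chk chk_rels
  have r1 := hr (rep 3 wa) (by simp)
  have r2 := hr (rep 3 wb) (by simp)
  have r3 := hr (rep 3 wc) (by simp)
  have e1 : wprod ml (wa ++ wc) = wprod ml (wc ++ wa) := eq_of_chkEqW (by decide +kernel)
  have e2 : wprod ml (wb ++ wc) = wprod ml (wc ++ wb) := eq_of_chkEqW (by decide +kernel)
  have e3 : wprod ml (wa ++ wb) = wprod ml (wb ++ wa ++ wc) := eq_of_chkEqW (by decide +kernel)
  simp only [wprod_rep, wprod_append] at r1 r2 r3 e1 e2 e3
  exact wpair_of_cube (by rw [card_H]; norm_num) (a := P wa) (b := P wb) (c := P wc) r1 r2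
    r3 (ne_one_of (b := 29) (by norm_num) (by decide +kernel)) e1 e2 e3 (fun r s hr hs => ⟨P [0], law_ne hr hs⟩) hx hy

end Cfsg.Agent.H689.WF.Ru

namespace Cfsg.Agent.H689.WF

open Cfsg.Agent.H533.Wf

universe u v

theorem wf_ru {K : Type v} [Group K] [Finite K] [IsSimpleGroup K] (h : Spor.IsoRu K) : WfRow.{u, v} 3 K := by
  obtain ⟨e⟩ := id h
  exact row_of_pairs (by unfold IsSporadicGroup; tauto) (by rw [NotCT.Orders.ru h]; norm_num)
    (e.trans RuLat.Main.equiv) fun x y hx hy => Ru.wpair hx hy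

end Cfsg.Agent.H689.WF
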