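import Cfsg.Agent.H689.WF.SpA
import Cfsg.Agent.H689.WF.SpMat
import Cfsg.Agent.H689.WF.SpJThree
import Cfsg.Agent.H689.WF.SpRu

/-!
# The rows [WF-SP1] of S3826 (helper689)

`wf_m11 wf_m12 wf_m22 wf_m23 wf_m24 wf_j1 wf_j2 wf_j3 wf_j4 wf_hs wf_ru wf_on`
-/

set_option autoImplicit false

namespace Cfsg.Agent.H689.WF

open Cfsg.Agent.H533.Wf

universe u v

theorem wf_sp1 {K : Type v} [Group K] [Finite K] [IsSimpleGroup K]
    (h : Spor.IsoM11 K ∨ Spor.IsoM12 K ∨ Spor.IsoM22 K ∨ Spor.IsoM23 K ∨ Spor.IsoM24 K ∨ Spor.IsoJ1 K ∨ Spor.IsoJ2 K ∨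
      Spor.IsoJ3 K ∨ Spor.IsoHS K ∨ Spor.IsoRu K ∨ Spor.IsoON K ∨ Spor.IsoJ4 K) : WfRow.{u, v} 3 K := by
  rcases h with h | h | h | h | h | h | h | h | h | h | h | h
  · exact wf_m11 h
  · exact wf_m12 h
  · exact wf_m22 h
  · exact wf_m23 h
  · exact wf_m24 h
  · exact wf_j1 h
  · exact wf_j2 h
  · exact wf_j3 h
  · exact wf_hs h
  · exact wf_ru h
  · exact wf_on h
  · exact wf_j4 h

end Cfsg.Agent.H689.WF
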