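import Cfsg.Agent.H689.WF.Tool
import Cfsg.Agent.H999.ONFiveCent
import Cfsg.Agent.H856.SylowThree
import Cfsg.Agent.KFacts.J4.Base
import Cfsg.Agent.KFacts.J2.Facts
import Cfsg.Agent.J2Type.ThreeF

/-!
# Rows of S3826: `M₁₁`, `M₂₂`, `M₂₃`, `J₁`, `HS`, `ON`, `J₄`, `J₂` (helper689)
-/

set_option autoImplicit false

namespace Cfsg.Agent.H689.WF

open Subgroup Cfsg Cfsg.Agent.H533.T5 Cfsg.Agent.H533.Wf

universe u v

theorem wf_m11 {K : Type v} [Group K] [Finite K] [IsSimpleGroup K] (h : Spor.IsoM11 K) : WfRow.{u, v} 3 K :=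
  row_of_card (by unfold IsSporadicGroup; tauto) (by rw [NotCT.Orders.m11 h]; norm_num)
    (by rw [NotCT.Orders.m11 h]; norm_num)

theorem wf_m22 {K : Type v} [Group K] [Finite K] [IsSimpleGroup K] (h : Spor.IsoM22 K) : WfRow.{u, v} 3 K :=
  row_of_card (by unfold IsSporadicGroup; tauto) (by rw [NotCT.Orders.m22 h]; norm_num)
    (by rw [NotCT.Orders.m22 h]; norm_num)

theorem wf_m23 {K : Type v} [Group K] [Finite K] [IsSimpleGroup K] (h : Spor.IsoM23 K) : WfRow.{u, v} 3 K :=
  row_of_card (by unfold IsSporadicGroup; tauto) (by rw [NotCT.Orders.m23 h]; norm_num)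
    (by rw [NotCT.Orders.m23 h]; norm_num)

theorem wf_j1 {K : Type v} [Group K] [Finite K] [IsSimpleGroup K] (h : Spor.IsoJ1 K) : WfRow.{u, v} 3 K :=
  row_of_card (by unfold IsSporadicGroup; tauto) (by rw [NotCT.Orders.j1 h]; norm_num)
    (by rw [NotCT.Orders.j1 h]; norm_num)

theorem wf_hs {K : Type v} [Group K] [Finite K] [IsSimpleGroup K] (h : Spor.IsoHS K) : WfRow.{u, v} 3 K :=
  row_of_card (by unfold IsSporadicGroup; tauto) (by rw [NotCT.Orders.hs h]; norm_num)
    (by rw [NotCT.Orders.hs h]; norm_num)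

theorem wf_on {K : Type v} [Group K] [Finite K] [IsSimpleGroup K] (h : Spor.IsoON K) : WfRow.{u, v} 3 K := by
  obtain ⟨e⟩ := id h
  exact row_of_one (by unfold IsSporadicGroup; tauto) (by rw [NotCT.Orders.on h]; norm_num) e
    fun x y hx hy => H999.ONFiveCent.isConj_three hx hy

theorem wf_j4 {K : Type v} [Group K] [Finite K] [IsSimpleGroup K] (h : Spor.IsoJ4 K) : WfRow.{u, v} 3 K := by
  obtain ⟨hfin, hsim, ⟨F⟩⟩ := KFacts.J4.Base.exists_full h
  exact row_of_one (by unfold IsSporadicGroup; tauto) (by rw [NotCT.Orders.j4 h]; norm_num) (MulEquiv.refl K)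
    fun x y hx hy => H856.SylowThree.one_class F.C hx hy

open Cfsg.Agent.J2Type Cfsg.Agent.J2Type.Base in
theorem pairs_j2 {K : Type*} [Group K] [Finite K] [IsSimpleGroup K] {z u : K} (h : Fus z u) {x y : K}
    (hx : orderOf x = 3) (hy : orderOf y = 3) : WPair 3 (⊤ : Subgroup K) x y := by
  have h3 : Fact (Nat.Prime 3) := ⟨Nat.prime_three⟩
  have hG := Order.card_of_fus h
  have hnc : ¬ IsMulCommutative K := not_comm_of_card (by rw [hG]; norm_num)
  obtain ⟨a, b, -, -, hca, hcb, hcl, P, -, hN⟩ := ThreeF.main h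
  have hP := ThreeF.card_sylow_three hG P
  have hx1 : x ^ 1 ≠ 1 := by
    rw [pow_one]
    rintro rfl
    rw [orderOf_one] at hx
    norm_num at hx
  have same : IsConj x y → WPair 3 (⊤ : Subgroup K) x y := fun hc =>
    wpair_of_isConj hnc (i := 1) (j := 1) (by rw [pow_one, pow_one]; exact hc.symm) hx1
  have mix : Nat.card (centralizer ({x} : Set K)) * Nat.card (centralizer ({y} : Set K)) = 1080 * 36 →
      WPair 3 (⊤ : Subgroup K) x y := fun hc => by
    refine wpair_of_count P ?_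
    rw [hc, hP, hG, hN]
    norm_num
  rcases hcl x hx with h1 | h1 <;> rcases hcl y hy with h2 | h2
  · exact same (h1.trans h2.symm)
  · exact mix (by rw [Cent5.card_centralizer_of_isConj h1, Cent5.card_centralizer_of_isConj h2, hca, hcb])
  · exact mix (by rw [Cent5.card_centralizer_of_isConj h1, Cent5.card_centralizer_of_isConj h2, hca, hcb])
  · exact same (h1.trans h2.symm)

theorem wf_j2 {K : Type v} [Group K] [Finite K] [IsSimpleGroup K] (h : Spor.IsoJ2 K) : WfRow.{u, v} 3 K := by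
  obtain ⟨t, u, Q, v, ρ, D⟩ := Cfsg.Agent.KFacts.J2.Facts.exists_dat_of h
  exact row_of_pairs (by unfold IsSporadicGroup; tauto) (by rw [NotCT.Orders.j2 h]; norm_num) (MulEquiv.refl K)
    fun x y hx hy => pairs_j2 D.F hx hy

end Cfsg.Agent.H689.WF
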