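import Cfsg.Agent.H533.Wf.Kills
import Cfsg.Agent.H322.Rad3.Tool

/-!
# Rows of S3826 for sporadic groups: the tool (helper689)
-/

set_option autoImplicit false

namespace Cfsg.Agent.H689.WF

open Subgroup Cfsg Cfsg.Agent.H533.T5 Cfsg.Agent.H533.Wf

universe u v w

/-- a finite simple group of composite order is not commutative -/
theorem not_comm_of_card {K : Type*} [Group K] [Finite K] [IsSimpleGroup K] (h : ¬ (Nat.card K).Prime) :
    ¬ IsMulCommutative K := by
  intro hc
  let _ : CommGroup K := { ‹Group K› with mul_comm := hc.is_comm.comm }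
  exact h IsSimpleGroup.prime_card

/-- pairs along an isomorphism -/
theorem wpair_equiv {G H : Type*} [Group G] [Group H] {p : ℕ} (e : G ≃* H) {x y : G}
    (h : WPair p (⊤ : Subgroup H) (e x) (e y)) : WPair p (⊤ : Subgroup G) x y := by
  refine WPair.of_hom e.toMonoidHom ?_ h
  rw [← MonoidHom.range_eq_map, MonoidHom.range_eq_top.2 e.surjective]

/-- the automorphisms of order 3 of a sporadic group are inner -/
theorem inner_of_spor {K : Type*} [Group K] [Finite K] (hS : IsSporadicGroup K) (a : MulAut K)
    (ha : orderOf a = 3) : a ∈ (MulAut.conj : K →* MulAut K).range := by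
  obtain ⟨g, rfl⟩ := H322.RadM.inner_of_index (H498.SporOut.index_le_two hS) a ha
  exact ⟨g, rfl⟩

/-- the row from the pairs of elements of order 3 in a model -/
theorem row_of_pairs {K : Type v} {H : Type w} [Group K] [Finite K] [IsSimpleGroup K] [Group H]
    (hS : IsSporadicGroup K) (hcard : ¬ (Nat.card K).Prime) (e : K ≃* H)
    (h : ∀ x y : H, orderOf x = 3 → orderOf y = 3 → WPair 3 (⊤ : Subgroup H) x y) :
    WfRow.{u, v} 3 K := by
  have h3 : Fact (Nat.Prime 3) := ⟨Nat.prime_three⟩
  refine WfRow.of_wrow (WRow.of_inner (not_comm_of_card hcard) (inner_of_spor hS) fun x y hx hy => ?_)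
  exact wpair_equiv e (h _ _ (by rw [MulEquiv.orderOf_eq, hx]) (by rw [MulEquiv.orderOf_eq, hy]))

/-- the row for commutative Sylow 3-subgroups of order at most 9 -/
theorem row_of_card {K : Type v} [Group K] [Finite K] [IsSimpleGroup K]
    (hS : IsSporadicGroup K) (hcard : ¬ (Nat.card K).Prime) (h : ¬ 3 ^ 3 ∣ Nat.card K) :
    WfRow.{u, v} 3 K := by
  have h3 : Fact (Nat.Prime 3) := ⟨Nat.prime_three⟩
  exact WfRow.of_wrow (WRow.of_card (not_comm_of_card hcard) Nat.prime_three (inner_of_spor hS) h)

/-- the row for one class of elements of order 3 -/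
theorem row_of_one {K : Type v} {H : Type w} [Group K] [Finite K] [IsSimpleGroup K] [Group H]
    (hS : IsSporadicGroup K) (hcard : ¬ (Nat.card K).Prime) (e : K ≃* H)
    (h : ∀ x y : H, orderOf x = 3 → orderOf y = 3 → IsConj x y) :
    WfRow.{u, v} 3 K := by
  have h3 : Fact (Nat.Prime 3) := ⟨Nat.prime_three⟩
  have hfin : Finite H := Finite.of_equiv K e.toEquiv
  have hsim : IsSimpleGroup H := e.symm.isSimpleGroup
  have hnc : ¬ IsMulCommutative H := by
    apply not_comm_of_card
    rw [← Nat.card_congr e.toEquiv]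
    exact hcard
  refine row_of_pairs hS hcard e fun x y hx hy => ?_
  refine wpair_of_isConj hnc (i := 1) (j := 1) ?_ ?_
  · rw [pow_one, pow_one]
    exact h y x hy hx
  · rw [pow_one]
    rintro rfl
    rw [orderOf_one] at hx
    norm_num at hx

end Cfsg.Agent.H689.WF
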